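import Cfsg.Agent.Spor.LyMca.S.D0

set_option autoImplicit false
set_option maxRecDepth 100000000
set_option Elab.async false

namespace Cfsg.Agent.Spor.LyMca.S

theorem gr4 : sub M3 (U.growI W2 [1, 0, 0, 1, 1, 0, 0, 1, 1, 0, 0, 1, 1, 0, 0, 1, 1, 0, 0, 1] (Nat.shiftLeft 1 1)) = true := by decide +kernel

theorem sd6 : U.sends [7] 0 1 = true := by decide +kernel

theorem gr7 : sub (ones 7128) (U.growI ([7] :: W2) [0, 2, 1, 0, 0, 1, 2, 2, 1, 0, 0, 1, 2, 2, 1, 0, 0, 1, 2, 2, 1, 0, 0, 1, 2, 2, 1] (Nat.shiftLeft 1 0)) = true := by decide +kernel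

theorem gr10 : sub M9 (U.growI W2 [0, 1, 1, 0, 0, 1, 1, 0, 0, 1, 1, 0, 0, 1, 1, 0, 0, 1, 1, 0, 0, 1] (Nat.shiftLeft 1 9)) = true := by decide +kernel

theorem sd12 : U.sends [7, 1, 5, 7] 0 9 = true := by decide +kernel

theorem gr13 : sub (ones 7128) (U.growI ([7, 1, 5, 7] :: W2) [0, 1, 2, 2, 1, 0, 1, 2, 2, 1, 0, 1, 2, 2, 1, 0, 1, 2, 2, 1, 0, 1, 2] (Nat.shiftLeft 1 0)) = true := by decide +kernel

theorem gr16 : sub M15 (U.growI W2 [0, 1, 1, 0, 0, 1, 1, 0, 0, 1, 1, 0, 0, 1, 1, 0, 0, 1, 1, 0, 0, 1, 1, 0, 0, 1, 1, 0] (Nat.shiftLeft 1 94)) = true := by decide +kernel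

theorem sd18 : U.sends [7, 5, 7, 5, 7] 0 94 = true := by decide +kernel

theorem gr19 : sub (ones 7128) (U.growI ([7, 5, 7, 5, 7] :: W2) [0, 1, 2, 2, 1, 0, 0, 1, 2, 2, 1, 0, 0, 1, 2, 2, 1, 0, 0, 1, 2, 2, 1, 0] (Nat.shiftLeft 1 0)) = true := by decide +kernel

theorem gr22 : sub M21 (U.growI W2 [0, 1, 1, 0, 0, 1, 1, 0, 0, 1, 1, 0, 0, 1, 1, 0, 0, 1, 1, 0, 0, 1, 1, 0, 0, 1] (Nat.shiftLeft 1 6)) = true := by decide +kernel

theorem sd24 : U.sends [7, 5, 7] 0 6 = true := by decide +kernel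

theorem gr25 : sub (ones 7128) (U.growI ([7, 5, 7] :: W2) [0, 1, 2, 2, 1, 0, 0, 1, 2, 2, 1, 0, 0, 1, 2, 2, 1, 0, 0, 1, 2, 2, 1, 0, 0, 1, 2] (Nat.shiftLeft 1 0)) = true := by decide +kernel

theorem ff27 : U.fixFrom 13 7128 1 = true := by decide +kernel

theorem ff28 : U.fixFrom 13 7128 3 = true := by decide +kernel

theorem ff29 : U.fixFrom 13 7128 5 = true := by decide +kernel

theorem ff30 : U.fixFrom 13 7128 7 = true := by decide +kernel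

end Cfsg.Agent.Spor.LyMca.S
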