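import Cfsg.Agent.Spor.Prim
import Cfsg.Agent.Spor.LyMca.Main
import Cfsg.Agent.Spor.LyMca.S.C0

set_option autoImplicit false
set_option maxRecDepth 100000000
set_option Elab.async false

namespace Cfsg.Agent.Spor.LyMca.S

theorem hU : U.Ok 13 := U.ok_of 13 (show AllP (fun n => Net.okb 13 n = true) [n0, n1, n2, n3] from AllP.cons ok0 (AllP.cons ok1 (AllP.cons ok2 (AllP.cons ok3 (AllP.nil)))))

theorem hfP : ∀ j < 4, U.fP [1, 3, 5, 7] j = fP j := by
  intro j hj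
  interval_cases j <;> rfl
theorem eG : gsub 4 fP = U.lsub W1 := (gsub_congr hfP).symm.trans (lsub_eq_gsub U [1, 3, 5, 7])
theorem upz1 : ev (atm 4 fP) [0] = U.τ 1 := pz1
theorem upz3 : ev (atm 4 fP) [2] = U.τ 3 := pz2
theorem upz5 : ev (atm 4 fP) [4] = U.τ 5 := pz3
theorem upz7 : ev (atm 4 fP) [6] = U.τ 7 := pz4
theorem eH : wsub 4 fP BW = U.lsub W2 :=
  lsub_eq_of_all₂ (show List.Forall₂ _ [[2], [4]] [[3], [5]] from List.Forall₂.cons (upz3.trans (one_mul _).symm) (List.Forall₂.cons (upz5.trans (one_mul _).symm) (List.Forall₂.nil)))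
theorem reach5 : Reach (U.lsub W2) 1 M3 := (Reach.grow hU (Reach.base _ 1) gr4)
theorem reach8 : Reach (U.lsub ([7] :: W2)) 0 (ones 7128) := (Reach.grow hU (Reach.base _ 0) gr7)
theorem reach11 : Reach (U.lsub W2) 9 M9 := (Reach.grow hU (Reach.base _ 9) gr10)
theorem reach14 : Reach (U.lsub ([7, 1, 5, 7] :: W2)) 0 (ones 7128) := (Reach.grow hU (Reach.base _ 0) gr13)
theorem reach17 : Reach (U.lsub W2) 94 M15 := (Reach.grow hU (Reach.base _ 94) gr16)
theorem reach20 : Reach (U.lsub ([7, 5, 7, 5, 7] :: W2)) 0 (ones 7128) := (Reach.grow hU (Reach.base _ 0) gr19)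
theorem reach23 : Reach (U.lsub W2) 6 M21 := (Reach.grow hU (Reach.base _ 6) gr22)
theorem reach26 : Reach (U.lsub ([7, 5, 7] :: W2)) 0 (ones 7128) := (Reach.grow hU (Reach.base _ 0) gr25)
noncomputable def X : List SubO := [([7], 1, M3), ([7, 1, 5, 7], 9, M9), ([7, 5, 7, 5, 7], 94, M15), ([7, 5, 7], 6, M21)]
theorem hX : AllP (SubOk U W2 W1) X :=
  show AllP (SubOk U W2 W1) [([7], 1, M3), ([7, 1, 5, 7], 9, M9), ([7, 5, 7, 5, 7], 94, M15), ([7, 5, 7], 6, M21)] from AllP.cons ⟨U.mem_letters (by decide), (hU.sends sd6), reach5⟩ (AllP.cons ⟨U.mem_letters (by decide), (hU.sends sd12), reach11⟩ (AllP.cons ⟨U.mem_letters (by decide), (hU.sends sd18), reach17⟩ (AllP.cons ⟨U.mem_letters (by decide), (hU.sends sd24), reach23⟩ (AllP.nil))))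
theorem hXc : subCov 7128 X = true := by decide +kernel
theorem hY : AllP (fun x : SubO => Reach (U.lsub (x.1 :: W2)) 0 (ones 7128)) X :=
  show AllP (fun x : SubO => Reach (U.lsub (x.1 :: W2)) 0 (ones 7128)) [([7], 1, M3), ([7, 1, 5, 7], 9, M9), ([7, 5, 7, 5, 7], 94, M15), ([7, 5, 7], 6, M21)] from AllP.cons reach8 (AllP.cons reach14 (AllP.cons reach20 (AllP.cons reach26 (AllP.nil))))
theorem hfix : gsub 4 fP ≤ FixFrom 7128 := (gsub_congr hfP).symm.le.trans (hU.gsub_fix (gs := [1, 3, 5, 7]) (AllP.cons ff27 (AllP.cons ff28 (AllP.cons ff29 (AllP.cons ff30 (AllP.nil))))))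

end Cfsg.Agent.Spor.LyMca.S
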